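import Mathlib
import Cfsg.Agent.XP.Exc
import Cfsg.Agent.S3835
import Cfsg.Agent.Class.PSL2Dickson
import Cfsg.Agent.Class.FieldTransport
import Cfsg.Agent.Chev.Tits1
import Cfsg.Agent.QT.OutC
import Cfsg.Agent.JTW.Eight

/-!
Defining characteristic, alternating groups, the prime two.
-/

set_option autoImplicit false
set_option linter.unusedSectionVars false

namespace Cfsg.Agent.XP

open Subgroup Cfsg Cfsg.Lie Finset
open scoped commutatorElement

theorem prime_mem (N : ℕ) (L : List ℕ) (h1 : N ∣ (Nat.factorial 71) ^ 2)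
    (h3 : ∀ p < 72, p.Prime → p ^ 3 ∣ N → p ^ 4 ∣ N ∨ p ∈ 2 :: L) {p : ℕ} [hp : Fact p.Prime]
    (h2 : p ≠ 2) {G : Type*} [Group G] [Finite G] (h : H3 p G) (hG : Nat.card G = N) : p ∈ L := by
  have h4 := hG ▸ h.dvd
  have h6 : p ≤ 71 := hp.out.dvd_factorial.1
    (hp.out.dvd_of_dvd_pow ((Dvd.dvd.trans (dvd_pow_self p (by norm_num)) h4).trans h1))
  exact (List.mem_cons.1 ((h3 p (by omega) hp.out h4).resolve_left (hG ▸ h.not_dvd))).resolve_left h2

variable {p : ℕ} [hp : Fact p.Prime] {G : Type*} [Group G] [Finite G]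

theorem H3.of_sylow (S : Sylow p G) (hS : IsExtraspecial p (S : Subgroup G))
    (h3 : Nat.card (S : Subgroup G) = p ^ 3) : H3 p G := by
  obtain ⟨⟨-, -, h1⟩, h2⟩ := hS
  have hc : ∀ x y : (S : Subgroup G), ⁅x, y⁆ ∈ center (S : Subgroup G) := fun x y =>
    h1 ▸ commutator_mem_commutator (mem_top x) (mem_top y)
  obtain ⟨x, y, hxy⟩ : ∃ x y : (S : Subgroup G), ⁅x, y⁆ ≠ 1 := by
    by_contra! h
    have : commutator (S : Subgroup G) = ⊥ :=
      eq_bot_iff.2 (commutator_le.2 fun x _ y _ => h x y)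
    rw [← h1, this, card_bot] at h2
    exact hp.out.one_lt.ne h2
  refine ⟨?_, Tri.map ⟨x, y, hxy, ?_, (mem_center_iff.1 (hc x y) x).symm,
    (mem_center_iff.1 (hc x y) y).symm⟩ (S : Subgroup G).subtype (subtype_injective _),
    S, S.isPGroup', x, x.2, y, y.2, fun h => hxy
      (commutatorElement_eq_one_iff_commute.2 (Subtype.ext h))⟩
  · rw [S.card_eq_multiplicity] at h3
    exact Nat.pow_right_injective hp.out.two_le h3
  · have := pow_card_eq_one' (x := (⟨_, hc x y⟩ : center _))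
    rw [h2] at this
    exact congrArg Subtype.val this

theorem not_alt (h2 : p ≠ 2) {n : ℕ} (hn : 5 ≤ n) : ¬ H3 p (alternatingGroup (Fin n)) := fun h => by
  by_cases h1 : n < p ^ 2
  · obtain ⟨S, k1, x, hx, y, hy, k2⟩ := h.na.map (alternatingGroup _).subtype (subtype_injective _)
    exact k2 (S3835.comm_perm h1 S k1 x hx y hy)
  · have : Nontrivial (Fin n) := Fin.nontrivial_iff_two_le.2 (by omega)
    refine h.not_dvd_mul (c := 2) (not_dvd_of_dvd_four h2 (by norm_num)) ?_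
    rw [two_mul_nat_card_alternatingGroup, Nat.card_perm, Nat.card_eq_fintype_card, Fintype.card_fin]
    refine Dvd.dvd.trans ?_ (Nat.factorial_dvd_factorial (not_lt.1 h1))
    have h3 := three_le h2
    rw [← prod_range_add_one_eq_factorial, ← Int.natCast_dvd_natCast, Nat.cast_prod]
    have h4 : 3 * p ≤ p ^ 2 := by nlinarith
    refine Dvd.dvd.trans ?_ (dvd_prod_three (a := p - 1) (b := 2 * p - 1) (c := p ^ 2 - 1)
      (by simp; omega) (by simp; omega) (by simp; omega) (by omega) (by omega) (by omega))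
    rw [Nat.sub_add_cancel (by omega), Nat.sub_add_cancel (by omega), Nat.sub_add_cancel (by omega)]
    exact ⟨2, by push_cast; ring⟩

theorem H3.le_three (h : H3 p G) {N d : ℕ} (h1 : UL.OrdData p (Nat.card G) N d) : N ≤ 3 := by
  obtain ⟨q, c, A, e, he, rfl, hc, h1, -⟩ := h1
  by_contra h2
  refine h.not_dvd_mul hc (h1 ▸ Dvd.dvd.mul_right ?_ _)
  rw [← pow_mul]
  exact pow_dvd_pow _ (by nlinarith)

theorem H3.exp_eq_one (h : H3 p G) {c e A : ℕ} (hc : ¬ p ∣ c) (he : 1 ≤ e)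
    (h1 : c * Nat.card G = (p ^ e) ^ 3 * A) : e = 1 := by
  by_contra h2
  refine h.not_dvd_mul hc (h1 ▸ Dvd.dvd.mul_right ?_ _)
  rw [← pow_mul]
  exact pow_dvd_pow _ (by omega)

variable {F : Type*} [Field F] [Fintype F]

theorem charP_of_dvd (h : p ∣ Fintype.card F) : CharP F p := by
  obtain ⟨r, hr, hc, f, -, hF⟩ := QT.exists_char F
  obtain rfl : p = r := eq_of_dvd_pow hr.out (hF ▸ h)
  exact hc

theorem sum_range_le {n : ℕ} (h : ∑ i ∈ range (n + 2), i ≤ 3) : n ≤ 1 := by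
  have := sum_range_id_mul_two (n + 2)
  by_contra h1
  simp only [show n + 2 - 1 = n + 1 from rfl] at this
  nlinarith

theorem of_PSL (h2 : p ≠ 2) {n : ℕ} (hn : 2 ≤ n)
    (h : H3 p (Matrix.ProjectiveSpecialLinearGroup (Fin n) F)) :
    Nonempty (Matrix.ProjectiveSpecialLinearGroup (Fin n) F ≃*
      Matrix.ProjectiveSpecialLinearGroup (Fin 3) (ZMod p)) := by
  have := charP_of_dvd (by_contra fun hq => not_PSL h2 hq hn h)
  obtain ⟨n, rfl⟩ := Nat.exists_eq_add_of_le' hn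
  have h1 := sum_range_le (h.le_three (UL.ordData_PSL hp.out n))
  interval_cases n
  · obtain ⟨P, hP⟩ := Class.Dickson.exists_sylow_PSL2_eq_unip (F := F) p (Class.Dickson.inf F)
    refine absurd ⟨⟨fun a b => Subtype.ext (Class.Dickson.pslTo_injective ?_)⟩⟩ (h.na.not_comm P)
    rw [Subgroup.coe_mul, Subgroup.coe_mul, map_mul, map_mul]
    exact Class.Dickson.unip_comm (mem_comap.1 (hP.le a.2)) (mem_comap.1 (hP.le b.2))
  · obtain ⟨e, he, hF⟩ := UL.card_eq_pow F p hp.out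
    have h3 := S0243.result hF 3 (by omega)
    have h4 : ¬ p ∣ p ^ e - 1 := by simpa using UL.not_dvd_sub hp.out he one_ne_zero
    rw [UL.prod_gl, ← mul_assoc] at h3
    obtain rfl := h.exp_eq_one (fun h => (hp.out.dvd_mul.1 h).elim
      (fun h => h4 (h.trans (Nat.gcd_dvd_right _ _))) h4) he h3
    exact ⟨Class.pslCongr _ (FiniteField.ringEquivOfCardEq (by rw [hF, pow_one, ZMod.card]))⟩

theorem of_PSU (h2 : p ≠ 2) {n q : ℕ} (hF : Fintype.card F = q ^ 2) (hn : 3 ≤ n)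
    (h : H3 p (PSU n F q)) : n = 3 ∧ q = p := by
  have hq : p ∣ q := by_contra fun hq => not_PSU h2 hF hq hn h
  have := charP_of_dvd (F := F) (hF ▸ dvd_pow hq two_ne_zero)
  obtain ⟨n, rfl⟩ := Nat.exists_eq_add_of_le' (show 2 ≤ n by omega)
  obtain rfl : n = 1 := by
    have := sum_range_le (h.le_three (UL.ordData_PSU hp.out hF n))
    omega
  obtain ⟨e, he, rfl⟩ := UL.root_eq_pow hp.out two_ne_zero hF
  have h3 := S0280.result hF 3 (by omega)
  have h4 : ¬ p ∣ p ^ e + 1 := by simpa using UL.not_dvd_add hp.out he one_ne_zero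
  rw [← mul_assoc] at h3
  obtain rfl := h.exp_eq_one (fun h => (hp.out.dvd_mul.1 h).elim
    (fun h => h4 (h.trans (Nat.gcd_dvd_right _ _))) h4) he h3
  exact ⟨rfl, pow_one p⟩

theorem H3.not_dvd_card (h : H3 p G) {N d : ℕ} (hN : 3 < N)
    (h1 : ∀ [CharP F p], UL.OrdData p (Nat.card G) N d) : ¬ p ∣ Fintype.card F := fun hq =>
  have := charP_of_dvd hq
  absurd (h.le_three h1) (by omega)

theorem two_case [IsSimpleGroup G] (hG : ¬ IsMulCommutative G) (T : Sylow 2 G)
    (hT : Nat.card (T : Subgroup G) = 8) (hab : ¬ IsMulCommutative (T : Subgroup G)) :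
    Nonempty (G ≃* alternatingGroup (Fin 7)) ∨ ∃ (F : Type) (_ : Field F) (_ : Fintype F),
      (Fintype.card F % 16 = 7 ∨ Fintype.card F % 16 = 9) ∧
        Nonempty (G ≃* Matrix.ProjectiveSpecialLinearGroup (Fin 2) F) := by
  have h16 := JTW.eight_dvd T hT
  rcases JTW.known_of_eight hG T hT hab with ⟨q, F, _, _, rfl, ho, h3, ⟨e⟩⟩ | h
  · refine Or.inr ⟨F, inferInstance, inferInstance, ?_, ⟨e⟩⟩
    have h1 := Class.Dickson.gcd_mul_card_PSL2 (K := F)
    rw [← Nat.card_congr e.toEquiv, Nat.card_eq_fintype_card (α := F)] at h1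
    generalize Fintype.card F = q at ho h3 h1 ⊢
    rw [Nat.odd_iff] at ho
    have h3 : Nat.gcd 2 (q - 1) = 2 := Nat.gcd_eq_left (by omega)
    rw [h3] at h1
    have h4 : 1 ≤ q ^ 2 := Nat.one_le_pow _ _ (by omega)
    have h5 : (2 * Nat.card G + q) % 32 = (q * q ^ 2) % 32 := by
      rw [h1, Nat.mul_sub, mul_one, Nat.sub_add_cancel (Nat.le_mul_of_pos_right _ h4)]
    rw [Nat.mul_mod q, Nat.pow_mod, Nat.add_mod, show 2 * Nat.card G % 32 = 16 by omega] at h5
    rw [← Nat.mod_mod_of_dvd q (show 16 ∣ 32 by norm_num)]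
    rw [← Nat.mod_mod_of_dvd q (show 2 ∣ 32 by norm_num)] at ho
    have h6 := Nat.mod_lt q (show 0 < 32 by norm_num)
    generalize q % 32 = r at h5 h6 ho ⊢
    clear * - h5 h6 ho
    interval_cases r <;> omega
  · exact Or.inl h

end Cfsg.Agent.XP
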